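import Groth.Prelude.Def_W4c6nonredquotmfGoodQuot
import Groth.Prelude.Def_ChGrp
import Groth.Agent.Lib.OrbitDim.Formula

/-!
# Rational points and orbit closures
-/

universe u

open CategoryTheory CategoryTheory.Limits MonoidalCategory CartesianMonoidalCategory MonObj AlgebraicGeometry Topology

namespace GrothLib.GoodQuot13

variable {k : Type u} [Field k]

local notation "e₀" => IsLocalRing.closedPoint k

/-- Two rational points of any scheme over a field with the same underlying point are equal. -/
theorem rationalPoint_ext {Y : Over (Spec (CommRingCat.of k))}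
    (x y : 𝟙_ (Over (Spec (CommRingCat.of k))) ⟶ Y) (h : x.left e₀ = y.left e₀) : x = y := by
  have hkey : ∀ (z : Y.left) (g g' : Y.left.residueField z ⟶ CommRingCat.of k),
      (Spec.map g ≫ Y.left.fromSpecResidueField z) ≫ Y.hom = 𝟙 _ →
      (Spec.map g' ≫ Y.left.fromSpecResidueField z) ≫ Y.hom = 𝟙 _ → g = g' := by
    intro z g g' hg hg'
    obtain ⟨s, hs⟩ : ∃ s : CommRingCat.of k ⟶ Y.left.residueField z,
        Spec.map s = Y.left.fromSpecResidueField z ≫ Y.hom := ⟨_, Spec.map_preimage _⟩
    rw [Category.assoc, ← hs, ← Spec.map_comp, ← Spec.map_id, Spec.map_inj] at hg hg'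
    ext r
    have hinj : Function.Injective g.hom := RingHom.injective _
    have hr : s (g r) = r :=
      hinj (congrArg (fun t : CommRingCat.of k ⟶ CommRingCat.of k => t (g r)) hg)
    conv_rhs => rw [← hr]
    exact (congrArg (fun t : CommRingCat.of k ⟶ CommRingCat.of k => t (g r)) hg').symm
  apply Over.OverMorphism.ext
  apply (Scheme.SpecToEquivOfField k Y.left).injective
  obtain ⟨⟨z, g⟩, hg⟩ := (Scheme.SpecToEquivOfField k Y.left).symm.surjective x.left
  obtain ⟨⟨z', g'⟩, hg'⟩ := (Scheme.SpecToEquivOfField k Y.left).symm.surjective y.left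
  rw [← hg, ← hg', Equiv.apply_symm_apply, Equiv.apply_symm_apply]
  have hz : x.left e₀ = z := by
    rw [← hg]
    change (Spec.map g ≫ Y.left.fromSpecResidueField z) e₀ = z
    rw [Scheme.Hom.comp_apply, Scheme.fromSpecResidueField_apply]
  have hz' : y.left e₀ = z' := by
    rw [← hg']
    change (Spec.map g' ≫ Y.left.fromSpecResidueField z') e₀ = z'
    rw [Scheme.Hom.comp_apply, Scheme.fromSpecResidueField_apply]
  obtain rfl : z = z' := hz.symm.trans (h.trans hz')
  congr 1
  exact hkey z g g'
    (by rw [show Spec.map g ≫ Y.left.fromSpecResidueField z = x.left from hg]; exact Over.w _)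
    (by rw [show Spec.map g' ≫ Y.left.fromSpecResidueField z = y.left from hg']; exact Over.w _)

variable {G X Y : Over (Spec (CommRingCat.of k))} [GrpObj G] (a : AlgGrp.Action G X) {φ : X ⟶ Y}

theorem range_orbitMap_map (hφ : GIT.IsInvariant a φ) (x : 𝟙_ (Over (Spec (CommRingCat.of k))) ⟶ X) :
    Set.range (a.orbitMap x).left ⊆ φ.left ⁻¹' {(x ≫ φ).left e₀} := by
  rintro _ ⟨g, rfl⟩
  have e : a.orbitMap x ≫ φ = toUnit G ≫ x ≫ φ := by
    rw [AlgGrp.Action.orbitMap, Category.assoc, show a.act ≫ φ = _ from hφ, lift_snd_assoc, Category.assoc]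
  rw [Set.mem_preimage, Set.mem_singleton_iff, ← Scheme.Hom.comp_apply, ← Over.comp_left, e, Over.comp_left,
    Scheme.Hom.comp_apply]
  exact congrArg (x ≫ φ).left (Subsingleton.elim (α := Spec (CommRingCat.of k)) _ _)

theorem closure_range_orbitMap_subset (hφ : GIT.IsInvariant a φ) (x : 𝟙_ (Over (Spec (CommRingCat.of k))) ⟶ X) :
    closure (Set.range (a.orbitMap x).left) ⊆ φ.left ⁻¹' {(x ≫ φ).left e₀} :=
  ((GrothLib.OrbitDim.isClosed_pt Y.hom (x ≫ φ).left (Over.w (x ≫ φ))).preimage
    φ.left.continuous).closure_subset_iff.2 (range_orbitMap_map a hφ x)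

theorem mem_range_orbitMap_self (x : 𝟙_ (Over (Spec (CommRingCat.of k))) ⟶ X) :
    x.left e₀ ∈ Set.range (a.orbitMap x).left := by
  refine ⟨η[G].left e₀, ?_⟩
  rw [← Scheme.Hom.comp_apply, ← Over.comp_left, AlgGrp.Action.comp_orbitMap,
    toUnit_unique (toUnit (𝟙_ (Over (Spec (CommRingCat.of k))))) (𝟙 _), Category.id_comp]
  have h1 : (η[G] : _ ⟶ G) = 1 := by
    rw [Hom.one_def, toUnit_unique (toUnit (𝟙_ (Over (Spec (CommRingCat.of k))))) (𝟙 _), Category.id_comp]
  rw [h1, AlgGrp.Action.lift_one_act]

theorem isInvariantSet_closure_range_orbitMap (x : 𝟙_ (Over (Spec (CommRingCat.of k))) ⟶ X) :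
    NRQuot.IsInvariantSet a (closure (Set.range (a.orbitMap x).left)) := by
  have hs : UniversallyOpen (snd G X).left :=
    inferInstanceAs (UniversallyOpen (pullback.snd G.hom X.hom))
  have ha : UniversallyOpen a.act.left := by
    have := GrothLib.GrpSchField.isIso_left (GrothLib.GrpSchField.shear a).hom
    rw [GrothLib.GrpSchField.act_left_eq]; infer_instance
  have h := GrothLib.GrpSchField.preimage_act_range_orbitMap a x
  have e : a.act.left ⁻¹' closure (Set.range (a.orbitMap x).left) =
      (snd G X).left ⁻¹' closure (Set.range (a.orbitMap x).left) := by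
    rw [a.act.left.isOpenMap.preimage_closure_eq_closure_preimage a.act.left.continuous, h,
      ← (snd G X).left.isOpenMap.preimage_closure_eq_closure_preimage (snd G X).left.continuous]
  exact fun p hp => (Set.ext_iff.1 e p).2 hp

end GrothLib.GoodQuot13
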